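import Mathlib.CategoryTheory.Sites.Abelian
import Mathlib.CategoryTheory.Sites.LocallySurjective
import Mathlib.CategoryTheory.Sites.Limits
import Mathlib.CategoryTheory.Sites.EpiMono
import Mathlib.Algebra.Homology.ShortComplex.Ab
import Mathlib.Algebra.Category.Grp.EpiMono

/-!
# Exactness of complexes of abelian sheaves in terms of sections
-/

set_option autoImplicit false
set_option backward.isDefEq.respectTransparency false
set_option maxHeartbeats 800000

universe w v' u'

namespace Groth.Agent.FppfCmp

open CategoryTheory Limits Opposite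

variable {C : Type u'} [Category.{v'} C] {J : GrothendieckTopology C} [HasSheafify J AddCommGrpCat.{w}]

/-- Sections over an object. -/
noncomputable abbrev sectF (J : GrothendieckTopology C) (U : C) : Sheaf J AddCommGrpCat.{w} ⥤ AddCommGrpCat.{w} :=
  sheafToPresheaf J AddCommGrpCat.{w} ⋙ (evaluation Cᵒᵖ AddCommGrpCat.{w}).obj (op U)

theorem sect_injective_of_mono {P Q : Sheaf J AddCommGrpCat.{w}} (φ : P ⟶ Q) [Mono φ] (U : C) :
    Function.Injective (φ.hom.app (op U)) := by
  haveI : PreservesFiniteLimits (sectF J U) := inferInstance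
  exact (AddCommGrpCat.mono_iff_injective _).1 (inferInstanceAs (Mono ((sectF J U).map φ)))

theorem exists_of_exact_mono {S : ShortComplex (Sheaf J AddCommGrpCat.{w})} (hS : S.Exact) [Mono S.f] (U : C)
    (c : S.X₂.obj.obj (op U)) (hc : S.g.hom.app (op U) c = 0) : ∃ y, S.f.hom.app (op U) y = c := by
  haveI : PreservesFiniteLimits (sectF J U) := inferInstance
  have h := hS.map_of_mono_of_preservesKernel (sectF J U) inferInstance inferInstance
  exact (ShortComplex.ab_exact_iff _).1 h c hc

theorem kernel_lift_imageSieve {S : ShortComplex (Sheaf J AddCommGrpCat.{w})} {U : C}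
    (c' : (kernel S.g).obj.obj (op U)) (c : S.X₂.obj.obj (op U)) (hc : (kernel.ι S.g).hom.app (op U) c' = c) :
    Presheaf.imageSieve (kernel.lift S.g S.f S.zero).hom (U := U) c' = Presheaf.imageSieve S.f.hom (U := U) c := by
  have hf : ∀ (W : C) (t : S.X₁.obj.obj (op W)),
      (kernel.ι S.g).hom.app (op W) ((kernel.lift S.g S.f S.zero).hom.app (op W) t) = S.f.hom.app (op W) t :=
    fun W t => DFunLike.congr_fun (congrArg (fun a => (a.hom.app (op W)).hom) (kernel.lift_ι S.g S.f S.zero)) t
  ext W g
  show (∃ t, (kernel.lift S.g S.f S.zero).hom.app (op W) t = (kernel S.g).obj.map g.op c') ↔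
    ∃ t, S.f.hom.app (op W) t = S.X₂.obj.map g.op c
  refine exists_congr fun t => ⟨fun h => ?_, fun h => sect_injective_of_mono (kernel.ι S.g) W ?_⟩
  · rw [← hf, h, NatTrans.naturality_apply, hc]
  · rw [hf, h, NatTrans.naturality_apply, hc]

theorem exists_kernel_section {S : ShortComplex (Sheaf J AddCommGrpCat.{w})} (U : C)
    (c : S.X₂.obj.obj (op U)) (hc : S.g.hom.app (op U) c = 0) :
    ∃ c', (kernel.ι S.g).hom.app (op U) c' = c :=
  exists_of_exact_mono (S := ShortComplex.mk (kernel.ι S.g) S.g (kernel.condition _))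
    (ShortComplex.exact_of_f_is_kernel _ (kernelIsKernel _)) U c hc

variable [J.HasSheafCompose (forget AddCommGrpCat.{w})] [J.WEqualsLocallyBijective AddCommGrpCat.{w}]

/-- In an exact complex of sheaves cocycles are locally coboundaries. -/
theorem imageSieve_mem_of_exact {S : ShortComplex (Sheaf J AddCommGrpCat.{w})} (hS : S.Exact) (U : C)
    (c : S.X₂.obj.obj (op U)) (hc : S.g.hom.app (op U) c = 0) : Presheaf.imageSieve S.f.hom (U := U) c ∈ J U := by
  obtain ⟨c', hc'⟩ := exists_kernel_section U c hc
  haveI := S.exact_iff_epi_kernel_lift.1 hS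
  haveI : Sheaf.IsLocallySurjective (kernel.lift S.g S.f S.zero) :=
    (Sheaf.isLocallySurjective_iff_epi' AddCommGrpCat.{w} _).2 inferInstance
  rw [← kernel_lift_imageSieve c' c hc']
  exact Presheaf.imageSieve_mem J (kernel.lift S.g S.f S.zero).hom (U := op U) c'

/-- A complex of sheaves is exact if cocycles are locally coboundaries. -/
theorem exact_of_imageSieve_mem (S : ShortComplex (Sheaf J AddCommGrpCat.{w}))
    (h : ∀ (U : C) (c : S.X₂.obj.obj (op U)), S.g.hom.app (op U) c = 0 → Presheaf.imageSieve S.f.hom (U := U) c ∈ J U) :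
    S.Exact := by
  refine S.exact_iff_epi_kernel_lift.2 ((Sheaf.isLocallySurjective_iff_epi' AddCommGrpCat.{w} _).1
    ⟨fun {U} c' => ?_⟩)
  rw [kernel_lift_imageSieve c' _ rfl]
  refine h U _ ?_
  exact DFunLike.congr_fun (congrArg (fun a => (a.hom.app (op U)).hom) (kernel.condition S.g)) c'

end Groth.Agent.FppfCmp
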