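import Groth.Agent.SpSeqLib.ExtDerived
import Mathlib.CategoryTheory.Preadditive.AdditiveFunctor
import Mathlib.CategoryTheory.Adjunction.Additive
import Mathlib.CategoryTheory.Preadditive.Injective.Basic
import Mathlib.Algebra.Homology.ShortComplex.ExactFunctor

/-!
# Ext groups through a right adjoint keeping one resolution exact
-/

set_option autoImplicit false
set_option backward.isDefEq.respectTransparency false
set_option maxHeartbeats 800000

universe v a b

namespace Groth.Agent.FppfCmp

open CategoryTheory Limits Abelian Opposite Groth.Agent.SpSeqLib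

variable {A : Type a} [Category.{v} A] [Abelian A] [HasExt.{v} A] {B : Type b} [Category.{v} B] [Abelian B]
  [HasExt.{v} B] {G : A ⥤ B} {L : B ⥤ A} (adj : L ⊣ G) [G.Additive] [L.PreservesMonomorphisms]

include adj in
/-- If a right adjoint keeps an injective resolution exact, the image is an injective resolution. -/
theorem exists_resolution {X : A} (I : InjectiveResolution X)
    (hI : ∀ n, ((G.mapHomologicalComplex (ComplexShape.up ℕ)).obj I.cocomplex).ExactAt (n + 1)) :
    ∃ J : InjectiveResolution (G.obj X), J.cocomplex = (G.mapHomologicalComplex (ComplexShape.up ℕ)).obj I.cocomplex := by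
  haveI : PreservesLimitsOfSize.{0, 0} G := adj.rightAdjoint_preservesLimits
  haveI : PreservesFiniteLimits G := PreservesLimitsOfSize.preservesFiniteLimits _
  let f₀ : G.obj X ⟶ G.obj (I.cocomplex.X 0) := G.map (I.ι.f 0)
  have hfd : f₀ ≫ G.map (I.cocomplex.d 0 1) = 0 := by
    refine (G.map_comp _ _).symm.trans ?_
    exact (congrArg G.map I.ι_f_zero_comp_complex_d).trans (G.map_zero _ _)
  refine ⟨{ cocomplex := (G.mapHomologicalComplex (ComplexShape.up ℕ)).obj I.cocomplex
            injective := fun n => Injective.injective_of_adjoint adj (I.cocomplex.X n)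
            ι := (CochainComplex.fromSingle₀Equiv _ _).symm ⟨f₀, hfd⟩
            quasiIso := ⟨fun n => ?_⟩ }, rfl⟩
  cases n with
  | zero =>
    rw [CochainComplex.quasiIsoAt₀_iff, ShortComplex.quasiIso_iff_of_zeros]
    · refine (ShortComplex.exact_and_mono_f_iff_of_iso
        (S₂ := ShortComplex.mk f₀ (G.map (I.cocomplex.d 0 1)) hfd) ?_).2 ⟨?_, ?_⟩
      · exact ShortComplex.isoMk (Iso.refl _) (Iso.refl _) (Iso.refl _)
          (by simp [HomologicalComplex.shortComplexFunctor'])
          ((Category.id_comp _).trans (Category.comp_id _).symm)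
      · exact I.exact₀.map_of_mono_of_preservesKernel G inferInstance inferInstance
      · exact inferInstanceAs (Mono (G.map (I.ι.f 0)))
    all_goals first | rfl | exact ((G.mapHomologicalComplex (ComplexShape.up ℕ)).obj I.cocomplex).shape 0 0 (by simp)
  | succ n =>
    rw [quasiIsoAt_iff_exactAt]
    · exact hI n
    · exact CochainComplex.exactAt_succ_single_obj _ _

include adj in
/-- `Ext(Z, G X) ≅ Ext(Z', X)` if `G` keeps a resolution of `X` exact and `L Z ≅ Z'`. -/
theorem nonempty_ext_equiv_of_resolution {X : A} (I : InjectiveResolution X)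
    (hI : ∀ n, ((G.mapHomologicalComplex (ComplexShape.up ℕ)).obj I.cocomplex).ExactAt (n + 1))
    {Z : B} {Z' : A} (e : L.obj Z ≅ Z') (n : ℕ) :
    Nonempty (Ext.{v} Z (G.obj X) n ≃+ Ext.{v} Z' X n) := by
  haveI : L.Additive := adj.left_adjoint_additive
  obtain ⟨J, hJ⟩ := exists_resolution adj I hI
  obtain ⟨e₁⟩ := nonempty_homology_homCx_iso Z J n
  obtain ⟨e₂⟩ := nonempty_homology_homCx_iso Z' I n
  obtain ⟨Jc, hinj, Jι, hq⟩ := J
  obtain rfl : Jc = (G.mapHomologicalComplex (ComplexShape.up ℕ)).obj I.cocomplex := hJ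
  let eq (k : ℕ) : (Z ⟶ G.obj (I.cocomplex.X k)) ≃+ (Z' ⟶ I.cocomplex.X k) :=
    AddEquiv.mk'
      { toFun := fun f => e.inv ≫ (adj.homEquiv Z (I.cocomplex.X k)).symm f
        invFun := fun g => adj.homEquiv Z (I.cocomplex.X k) (e.hom ≫ g)
        left_inv := fun f => by simp
        right_inv := fun g => by simp }
      fun f g => by simp [Adjunction.homEquiv_counit, Preadditive.comp_add, Preadditive.add_comp]
  let c : homCx Z (⟨_, hinj, Jι, hq⟩ : InjectiveResolution (G.obj X)) ≅ homCx Z' I :=
    HomologicalComplex.Hom.isoOfComponents (fun k => (eq k).toAddCommGrpIso) fun i j hij => by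
      ext f
      change eq i f ≫ I.cocomplex.d i j = eq j (f ≫ G.map (I.cocomplex.d i j))
      show (e.inv ≫ (adj.homEquiv Z (I.cocomplex.X i)).symm f) ≫ I.cocomplex.d i j =
        e.inv ≫ (adj.homEquiv Z (I.cocomplex.X j)).symm (f ≫ G.map (I.cocomplex.d i j))
      rw [adj.homEquiv_naturality_right_symm, Category.assoc]
  exact ⟨(e₁.symm ≪≫ (HomologicalComplex.homologyFunctor _ _ n).mapIso c ≪≫ e₂).addCommGroupIsoToAddEquiv⟩

end Groth.Agent.FppfCmp
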