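import Groth.Agent.BigSiteLib.EtFpqc
import Groth.Agent.S6630

/-!
# Sections of big fppf sheaves: glueing on disjoint opens and refinement along finite morphisms
-/

set_option autoImplicit false
set_option backward.isDefEq.respectTransparency false
set_option backward.isDefEq.respectTransparency.types false
set_option maxHeartbeats 800000
universe u

namespace Groth.Agent.FppfCmp

open CategoryTheory Limits AlgebraicGeometry Opposite Groth.Agent.BigSiteLib

variable {S : Scheme.{u}}

/-- The big etale topology. -/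
abbrev Je (S : Scheme.{u}) : GrothendieckTopology (Over S) := QuotSh.J Scheme.etalePrecoverage S

/-- The big fppf topology. -/
abbrev Jf (S : Scheme.{u}) : GrothendieckTopology (Over S) := QuotSh.J Scheme.fppfPrecoverage S

theorem je_le_jf (S : Scheme.{u}) : Je S ≤ Jf S :=
  BigSite.J_mono BigSite.etalePrecoverage_le_fppfPrecoverage S

/-- A section is locally in the image of a map. -/
theorem map_mem_imageSieve {P Q : (Over S)ᵒᵖ ⥤ AddCommGrpCat.{u + 1}} (φ : P ⟶ Q) {X Y : Over S} (e : Y ⟶ X)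
    (c : Q.obj (op X)) : Presheaf.imageSieve φ (U := Y) (Q.map e.op c) = (Presheaf.imageSieve φ (U := X) c).pullback e := by
  ext W g
  show (∃ t, φ.app (op W) t = Q.map g.op (Q.map e.op c)) ↔ ∃ t, φ.app (op W) t = Q.map (g ≫ e).op c
  rw [map_map_apply]

/-- Etale coverings are detected pointwise. -/
theorem exists_etale_of_mem {X : Over S} {R : Sieve X} (h : R ∈ Je S X) (x : X.left) :
    ∃ (W : Over S) (e : W ⟶ X), Etale e.left ∧ (∃ w, e.left w = x) ∧ R.arrows e := by
  have hS : Sieve.overEquiv X R ∈ Scheme.grothendieckTopology @Etale X.left := h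
  obtain ⟨𝒰, hle⟩ := Scheme.exists_cover_of_mem_grothendieckTopology hS
  obtain ⟨w, hw⟩ := 𝒰.covers x
  exact ⟨Over.mk (𝒰.f (𝒰.idx x) ≫ X.hom), Over.homMk (𝒰.f (𝒰.idx x)), 𝒰.map_prop _, ⟨w, hw⟩,
    (Sieve.overEquiv_iff R _).1 (hle _ _ ⟨𝒰.idx x⟩)⟩

/-- An open subscheme as an object over the base. -/
noncomputable abbrev openObj (Z : Over S) (D : Z.left.Opens) : Over S := Over.mk (D.ι ≫ Z.hom)

/-- The inclusion of an open subscheme over the base. -/
noncomputable abbrev openIncl (Z : Over S) (D : Z.left.Opens) : openObj Z D ⟶ Z :=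
  Over.homMk (U := openObj Z D) (V := Z) D.ι rfl

/-- Sections over disjoint opens glue. -/
theorem exists_glue_disjoint (G : Sheaf (Jf S) AddCommGrpCat.{u + 1}) (Z : Over S) {μ : Type u}
    (D : μ → Z.left.Opens) (hdisj : ∀ a b, a ≠ b → Disjoint (D a) (D b)) (htop : (⨆ a, D a) = ⊤)
    (y : ∀ a, G.obj.obj (op (openObj Z (D a)))) :
    ∃ t : G.obj.obj (op Z), ∀ a, G.obj.map (openIncl Z (D a)).op t = y a := by
  let R := Sieve.ofArrows (fun a => openObj Z (D a)) (fun a => openIncl Z (D a))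
  have hR : R ∈ Jf S Z := je_le_jf S Z (etale_sieve_mem R fun x => by
    have hx : x ∈ (⨆ a, D a) := htop ▸ trivial
    obtain ⟨a, ha⟩ := TopologicalSpace.Opens.mem_iSup.1 hx
    exact ⟨_, openIncl Z (D a), inferInstanceAs (Etale (D a).ι), ⟨⟨x, ha⟩, rfl⟩, Sieve.ofArrows_mk _ _ a⟩)
  have hP := (Presieve.isSheafFor_iff_generate _).2 ((types_isSheaf G) R hR)
  obtain ⟨t, ht, -⟩ := (Presieve.isSheafFor_arrows_iff _ _).1 hP y fun a b W ga gb e => by
    by_cases hab : a = b
    · subst hab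
      haveI : Mono (openIncl Z (D a)).left := inferInstanceAs (Mono (D a).ι)
      rw [show ga = gb from Over.OverMorphism.ext ((cancel_mono (openIncl Z (D a)).left).1
        (congrArg (fun t => t.left) e))]
    · haveI : IsEmpty ↥W.left := ⟨fun w => by
        have hw : (D a).ι (ga.left w) = (D b).ι (gb.left w) := congrArg (fun t => t.left w) e
        exact (hdisj a b hab).le_bot (show (D a).ι (ga.left w) ∈ D a ⊓ D b from
          ⟨(ga.left w).2, hw ▸ (gb.left w).2⟩)⟩
      have hbot : (⊥ : Sieve W) ∈ Jf S W := je_le_jf S W (etale_sieve_mem _ fun w => isEmptyElim w)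
      haveI : Subsingleton (G.obj.obj (op W)) := AddCommGrpCat.subsingleton_of_isZero
        (IsZero.of_iso (isZero_zero _) ((G.isTerminalOfBotCover W hbot).uniqueUpToIso HasZeroObject.zeroIsTerminal))
      exact Subsingleton.elim (α := G.obj.obj (op W)) _ _
  exact ⟨t, ht⟩

/-- A finite morphism: etale local images upstairs come from etale localisation of the target. -/
theorem exists_finite_refine {P Q : Sheaf (Jf S) AddCommGrpCat.{u + 1}} (φ : P ⟶ Q) {X Y : Over S} (h : Y ⟶ X)
    [IsIntegralHom h.left] (c : Q.obj.obj (op Y)) (hc : Presheaf.imageSieve φ.hom (U := Y) c ∈ Je S Y) (x : X.left) :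
    ∃ (X₁ : Over S) (e : X₁ ⟶ X), Etale e.left ∧ (∃ p, e.left p = x) ∧
      ∃ t : P.obj.obj (op (pbObj h e)), φ.hom.app _ t = Q.obj.map (pbFst h e).op c := by
  choose W g hg hwx hR using exists_etale_of_mem hc
  choose w hw using hwx
  let pr := pullback.fst h.left (𝟙 X.left)
  haveI : IsIso pr := inferInstance
  obtain ⟨κ, V', v', hv', hcov, hdec⟩ := S6630.result h.left X.left (𝟙 X.left) Y.left
    (fun y => (W y).left) (fun y => (g y).left ≫ inv pr)
    (fun y => haveI := hg y; inferInstance)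
    (fun q => ⟨pr q, w (pr q), by
      rw [Scheme.Hom.comp_apply, hw, ← Scheme.Hom.comp_apply, IsIso.hom_inv_id]; rfl⟩)
  obtain ⟨j, p, hp⟩ := hcov x
  obtain ⟨μ, D, hdisj, htop, hfac⟩ := hdec j
  let X₁ : Over S := Over.mk ((v' j ≫ 𝟙 X.left) ≫ X.hom)
  let e : X₁ ⟶ X := Over.homMk (U := X₁) (V := X) (v' j ≫ 𝟙 X.left) rfl
  haveI := hv' j
  refine ⟨X₁, e, inferInstanceAs (Etale (v' j ≫ 𝟙 X.left)), ⟨p, by
    show (v' j ≫ 𝟙 X.left) p = x
    rw [Category.comp_id, hp]⟩, ?_⟩
  choose i k hk using hfac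
  have hk' : ∀ a, k a ≫ (g (i a)).left = (D a).ι ≫ pullback.fst h.left (v' j ≫ 𝟙 X.left) := fun a => by
    have := congrArg (fun t => t ≫ pr) (hk a)
    simp only [Category.assoc, IsIso.inv_hom_id, Category.comp_id] at this
    refine this.trans ?_
    simp [pr, pullback.map]
  let K : ∀ a, openObj (pbObj h e) (D a) ⟶ W (i a) := fun a =>
    Over.homMk (U := openObj (pbObj h e) (D a)) (V := W (i a)) (k a) (by
      rw [← Over.w (g (i a)), ← Category.assoc, hk']
      exact Category.assoc _ _ _)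
  have hmem : ∀ a, ∃ t, φ.hom.app _ t = Q.obj.map (openIncl (pbObj h e) (D a) ≫ pbFst h e).op c := fun a => by
    obtain ⟨t, ht⟩ := (Presheaf.imageSieve φ.hom (U := Y) c).downward_closed (hR (i a)) (K a)
    refine ⟨t, ht.trans ?_⟩
    rw [show K a ≫ g (i a) = openIncl (pbObj h e) (D a) ≫ pbFst h e from Over.OverMorphism.ext (hk' a)]
  choose t ht using hmem
  obtain ⟨T, hT⟩ := exists_glue_disjoint P (pbObj h e) D hdisj htop t
  refine ⟨T, ((types_isSheaf Q) _ (je_le_jf S _ (etale_sieve_mem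
    (Presheaf.equalizerSieve (F := Q.obj) (X := op (pbObj h e)) (φ.hom.app _ T) (Q.obj.map (pbFst h e).op c))
      fun z => ?_))).isSeparatedFor.ext (fun {_} _ hg => hg)⟩
  have hz : z ∈ (⨆ a, D a) := htop ▸ trivial
  obtain ⟨a, ha⟩ := TopologicalSpace.Opens.mem_iSup.1 hz
  refine ⟨_, openIncl (pbObj h e) (D a), inferInstanceAs (Etale (D a).ι), ⟨⟨z, ha⟩, rfl⟩, ?_⟩
  show Q.obj.map _ (φ.hom.app _ T) = Q.obj.map _ (Q.obj.map _ c)
  rw [map_map_apply, ← NatTrans.naturality_apply, hT, ht]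

end Groth.Agent.FppfCmp
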