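import Groth.Agent.FppfCmp.Basic
import Groth.Agent.BigSiteLib.Counit
import Groth.Agent.BigSiteLib.EtFppfPull
import Groth.Agent.BigSiteLib.Shriek
import Groth.Agent.S0621

/-!
# Resolutions of sheaves coming from the small etale site on the big fppf site
-/

set_option autoImplicit false
set_option backward.isDefEq.respectTransparency false
set_option backward.isDefEq.respectTransparency.types false
set_option maxHeartbeats 800000
universe u

namespace Groth.Agent.FppfCmp

open CategoryTheory Limits AlgebraicGeometry Opposite Groth.Agent.BigSiteLib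

variable {S T : Scheme.{u}}

/-- The maps of sections of a morphism of big fppf sheaves. -/
noncomputable abbrev appS {P Q : EtFppf.AbF S} (φ : P ⟶ Q) (U : Over S) : P.obj.obj (op U) ⟶ Q.obj.obj (op U) :=
  φ.hom.app (op U)

/-- A complex of injective fppf sheaves starting with a sheaf coming from the small etale site. -/
structure ResData (S : Scheme.{u}) where
  /-- the etale sheaf -/
  F : EtCoh.Ab S
  /-- the terms -/
  K : ℕ → EtFppf.AbF S
  /-- the differentials -/
  d : ∀ n, K n ⟶ K (n + 1)
  d_d : ∀ n, d n ≫ d (n + 1) = 0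
  inj : ∀ n, Injective (K n)
  /-- the augmentation -/
  ι : (piSheaf F).obj ⟶ (K 0).obj
  ι_injective : ∀ U : Over S, Function.Injective (ι.app (op U))
  ι_ker : ∀ (U : Over S) (x : (K 0).obj.obj (op U)), appS (d 0) U x = 0 ↔ ∃ y, ι.app (op U) y = x

/-- Exactness for the fppf topology up to a degree. -/
def ResData.ExactUpTo (D : ResData S) (q : ℕ) : Prop :=
  ∀ m, m + 1 ≤ q → ∀ (U : Over S) (c : (D.K (m + 1)).obj.obj (op U)), appS (D.d (m + 1)) U c = 0 →
    Presheaf.imageSieve (D.d m).hom (U := U) c ∈ Jf S U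

/-- Cocycles are etale locally coboundaries up to a degree. -/
def ResData.EtExactUpTo (D : ResData S) (q : ℕ) : Prop :=
  ∀ m, m + 1 ≤ q → ∀ (U : Over S) (c : (D.K (m + 1)).obj.obj (op U)), appS (D.d (m + 1)) U c = 0 →
    Presheaf.imageSieve (D.d m).hom (U := U) c ∈ Je S U

/-- The comparison in degrees up to `q`. -/
def Vanish (q : ℕ) : Prop :=
  ∀ (S : Scheme.{u}) (D : ResData S), D.ExactUpTo q → D.EtExactUpTo q

/-- Inverse images of sheaves coming from the small etale sites. -/
noncomputable def pullPiIso (g : T ⟶ S) :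
    BigSite.piEtPull Scheme.etalePrecoverage S ⋙ BigSite.pullBig Scheme.etalePrecoverage g AddCommGrpCat.{u + 1} ≅
      EtCoh.pull g ⋙ BigSite.piEtPull Scheme.etalePrecoverage T :=
  Adjunction.leftAdjointUniq
    (((BigSite.piEtAdj Scheme.etalePrecoverage S).comp
      (BigSite.bigAdj Scheme.etalePrecoverage g AddCommGrpCat.{u + 1})).ofNatIsoRight (pushResIso g Scheme.etalePrecoverage))
    ((EtCoh.pullPushAdj g).comp (BigSite.piEtAdj Scheme.etalePrecoverage T))

/-- The inverse image of a resolution. -/
noncomputable def ResData.restrict (D : ResData S) (g : T ⟶ S) : ResData T where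
  F := (EtCoh.pull g).obj D.F
  K n := (BigSite.pullBig Scheme.fppfPrecoverage g AddCommGrpCat.{u + 1}).obj (D.K n)
  d n := (BigSite.pullBig Scheme.fppfPrecoverage g AddCommGrpCat.{u + 1}).map (D.d n)
  d_d n := by rw [← Functor.map_comp, D.d_d, Functor.map_zero]
  inj n := haveI := D.inj n; injective_pullBig g Scheme.fppfPrecoverage (D.K n)
  ι := ((pullPiIso g).app D.F).inv.hom ≫ Functor.whiskerLeft (Over.map g).op D.ι
  ι_injective U := by
    intro x y h
    have := D.ι_injective ((Over.map g).obj U) h
    let e := ((sheafToPresheaf _ _).mapIso ((pullPiIso g).app D.F)).app (op U)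
    exact e.symm.addCommGroupIsoToAddEquiv.injective this
  ι_ker U x := by
    let e := ((sheafToPresheaf _ _).mapIso ((pullPiIso g).app D.F)).app (op U)
    refine (D.ι_ker ((Over.map g).obj U) x).trans ⟨?_, ?_⟩
    · rintro ⟨y, hy⟩
      obtain ⟨y', rfl⟩ := e.symm.addCommGroupIsoToAddEquiv.surjective y
      exact ⟨y', hy⟩
    · rintro ⟨y, hy⟩
      exact ⟨_, hy⟩

theorem imageSieve_map_overMap {P Q : (Over S)ᵒᵖ ⥤ AddCommGrpCat.{u + 1}} (φ : P ⟶ Q) (g : T ⟶ S) (U : Over T)
    (c : Q.obj (op ((Over.map g).obj U))) :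
    Presheaf.imageSieve (Functor.whiskerLeft (Over.map g).op φ) (U := U) c =
      (Presheaf.imageSieve φ (U := (Over.map g).obj U) c).functorPullback (Over.map g) :=
  rfl

theorem ResData.exactUpTo_restrict {D : ResData S} {q : ℕ} (h : D.ExactUpTo q) (g : T ⟶ S) :
    (D.restrict g).ExactUpTo q := fun m hm U c hc => by
  show Presheaf.imageSieve (Functor.whiskerLeft (Over.map g).op (D.d m).hom) (U := U) c ∈ Jf T U
  rw [imageSieve_map_overMap]
  exact (Over.map g).cover_lift (Jf T) (Jf S) (h m hm ((Over.map g).obj U) c hc)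

end Groth.Agent.FppfCmp
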