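import Groth.Agent.FppfCmp.Apply

/-!
# Higher direct images along finite morphisms on big fppf sites of sheaves from small etale sites
-/

set_option autoImplicit false
set_option backward.isDefEq.respectTransparency false
set_option backward.isDefEq.respectTransparency.types false
set_option maxHeartbeats 800000
universe u

namespace Groth.Agent.FppfCmp

open CategoryTheory Limits AlgebraicGeometry Opposite Groth.Agent.BigSiteLib

variable {X Y : Scheme.{u}} (f : X ⟶ Y)

/-- For an integral morphism, etale local images upstairs come from etale localisation downstairs. -/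
theorem exists_refine_pullback [IsIntegralHom f] {P Q : Sheaf (Jf X) AddCommGrpCat.{u + 1}} (φ : P ⟶ Q) (U : Over Y)
    (c : Q.obj.obj (op ((Over.pullback f).obj U)))
    (hc : Presheaf.imageSieve φ.hom (U := (Over.pullback f).obj U) c ∈ Je X ((Over.pullback f).obj U)) (x : U.left) :
    ∃ (W : Over Y) (e : W ⟶ U), Etale e.left ∧ (∃ p, e.left p = x) ∧
      ∃ t : P.obj.obj (op ((Over.pullback f).obj W)), φ.hom.app _ t = Q.obj.map ((Over.pullback f).map e).op c := by
  let P₀ := (Over.pullback f).obj U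
  let h : P₀.left ⟶ U.left := pullback.fst U.hom f
  haveI : IsIntegralHom h := MorphismProperty.pullback_fst U.hom f inferInstance
  choose W g hg hwx hR using exists_etale_of_mem hc
  choose w hw using hwx
  let pr := pullback.fst h (𝟙 U.left)
  haveI : IsIso pr := inferInstance
  obtain ⟨κ, V', v', hv', hcov, hdec⟩ := S6630.result h U.left (𝟙 U.left) P₀.left
    (fun y => (W y).left) (fun y => (g y).left ≫ inv pr)
    (fun y => haveI := hg y; inferInstance)
    (fun q => ⟨pr q, w (pr q), by
      rw [Scheme.Hom.comp_apply, hw, ← Scheme.Hom.comp_apply, IsIso.hom_inv_id]; rfl⟩)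
  obtain ⟨j, p, hp⟩ := hcov x
  obtain ⟨μ, D, hdisj, htop, hfac⟩ := hdec j
  let X₁ : Over Y := Over.mk ((v' j ≫ 𝟙 U.left) ≫ U.hom)
  let e : X₁ ⟶ U := Over.homMk (U := X₁) (V := U) (v' j ≫ 𝟙 U.left) rfl
  haveI := hv' j
  refine ⟨X₁, e, inferInstanceAs (Etale (v' j ≫ 𝟙 U.left)), ⟨p, by
    show (v' j ≫ 𝟙 U.left) p = x
    rw [Category.comp_id, hp]⟩, ?_⟩
  let Z : Over X := Over.mk (pullback.fst h (v' j ≫ 𝟙 U.left) ≫ P₀.hom)
  let a : Z ⟶ P₀ := Over.homMk (U := Z) (V := P₀) (pullback.fst h (v' j ≫ 𝟙 U.left)) rfl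
  choose i k hk using hfac
  have hk' : ∀ a', k a' ≫ (g (i a')).left = (D a').ι ≫ pullback.fst h (v' j ≫ 𝟙 U.left) := fun a' => by
    have := congrArg (fun t => t ≫ pr) (hk a')
    simp only [Category.assoc, IsIso.inv_hom_id, Category.comp_id] at this
    refine this.trans ?_
    simp [pr, pullback.map]
  let K : ∀ a', openObj Z (D a') ⟶ W (i a') := fun a' =>
    Over.homMk (U := openObj Z (D a')) (V := W (i a')) (k a') (by
      rw [← Over.w (g (i a')), ← Category.assoc, hk']
      exact Category.assoc _ _ _)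
  have hmem : ∀ a', ∃ t, φ.hom.app _ t = Q.obj.map (openIncl Z (D a') ≫ a).op c := fun a' => by
    obtain ⟨t, ht⟩ := (Presheaf.imageSieve φ.hom (U := P₀) c).downward_closed (hR (i a')) (K a')
    refine ⟨t, ht.trans ?_⟩
    rw [show K a' ≫ g (i a') = openIncl Z (D a') ≫ a from Over.OverMorphism.ext (hk' a')]
  choose t ht using hmem
  obtain ⟨T, hT⟩ := exists_glue_disjoint P Z D hdisj htop t
  have hTc : φ.hom.app _ T = Q.obj.map a.op c := by
    refine ((types_isSheaf Q) _ (je_le_jf X _ (etale_sieve_mem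
      (Presheaf.equalizerSieve (F := Q.obj) (X := op Z) (φ.hom.app _ T) (Q.obj.map a.op c))
        fun z => ?_))).isSeparatedFor.ext (fun {_} _ hg' => hg')
    have hz : z ∈ (⨆ a', D a') := htop ▸ trivial
    obtain ⟨a', ha⟩ := TopologicalSpace.Opens.mem_iSup.1 hz
    refine ⟨_, openIncl Z (D a'), inferInstanceAs (Etale (D a').ι), ⟨⟨z, ha⟩, rfl⟩, ?_⟩
    show Q.obj.map _ (φ.hom.app _ T) = Q.obj.map _ (Q.obj.map _ c)
    rw [map_map_apply, ← NatTrans.naturality_apply, hT, ht]
  have hw₁ : ((Over.pullback f).map e).left ≫ h = pullback.fst X₁.hom f ≫ (v' j ≫ 𝟙 U.left) := by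
    simp [h, e]
  let γ : (Over.pullback f).obj X₁ ⟶ Z :=
    Over.homMk (U := (Over.pullback f).obj X₁) (V := Z)
      (pullback.lift ((Over.pullback f).map e).left (pullback.fst X₁.hom f) hw₁) (by
        show pullback.lift _ _ hw₁ ≫ pullback.fst h (v' j ≫ 𝟙 U.left) ≫ P₀.hom = _
        rw [pullback.lift_fst_assoc]
        exact Over.w ((Over.pullback f).map e))
  refine ⟨P.obj.map γ.op T, ?_⟩
  rw [NatTrans.naturality_apply, hTc, map_map_apply]
  exact congrArg (fun r => Q.obj.map (Quiver.Hom.op r) c) (Over.OverMorphism.ext (pullback.lift_fst _ _ hw₁))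

/-- Higher direct images along integral morphisms on big fppf sites of sheaves from small etale sites vanish. -/
theorem isZero_RpushBig [IsIntegralHom f] (F : EtCoh.Ab X) (n : ℕ) :
    IsZero ((EtFppf.RpushBig f (n + 1)).obj (piFppf F)) := by
  let I := InjectiveResolution.of (piFppf F)
  refine IsZero.of_iso ?_ (I.isoRightDerivedObj (EtFppf.pushBig f) (n + 1))
  change IsZero (HomologicalComplex.homology _ (n + 1))
  rw [← HomologicalComplex.exactAt_iff_isZero_homology,
    HomologicalComplex.exactAt_iff' _ n (n + 1) (n + 2) (by simp) (by simp)]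
  refine exact_of_imageSieve_mem (J := EtFppf.J Y)
    ((((EtFppf.pushBig f).mapHomologicalComplex (ComplexShape.up ℕ)).obj I.cocomplex).sc' n (n + 1) (n + 2))
    fun U c hc => je_le_jf Y U (etale_sieve_mem _ fun x => ?_)
  obtain ⟨W, e, he, hp, t, ht⟩ := exists_refine_pullback f (I.cocomplex.d n (n + 1)) U c
    (imageSieve_mem_Je F I n ((Over.pullback f).obj U) c hc) x
  exact ⟨W, e, he, hp, t, ht⟩

/-- `π⁻¹` commutes with direct images along finite morphisms on big fppf sites. -/
noncomputable def pushPiFppfIso [IsFinite f] (F : EtCoh.Ab X) :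
    piFppf ((EtCoh.push f).obj F) ≅ (EtFppf.pushBig f).obj (piFppf F) :=
  (fullyFaithfulSheafToPresheaf _ _).preimageIso
    ((sheafToPresheaf (Je Y) AddCommGrpCat.{u + 1}).mapIso (piPushIso f (fun g g' f' c F' => Groth.Agent.S0621.result f g f' g' c F') F))

end Groth.Agent.FppfCmp
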