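import Groth.Agent.FppfCmp.Main

/-!
# Reduction to finite flat coverings
-/

set_option autoImplicit false
set_option backward.isDefEq.respectTransparency false
set_option backward.isDefEq.respectTransparency.types false
set_option maxHeartbeats 1600000
universe u

namespace Groth.Agent.FppfCmp

open CategoryTheory Limits AlgebraicGeometry Opposite Groth.Agent.BigSiteLib

/-- An fppf cover of the base is, etale locally, refined by a finite flat cover, up to Zariski localisation. -/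
theorem exists_finite_flat {S : Scheme.{u}} {R : Sieve (Over.mk (𝟙 S))} (hR : R ∈ Jf S (Over.mk (𝟙 S))) (s : S) :
    ∃ (X Y : Over S) (hY : Y ⟶ X) (p : X.left), IsFinite hY.left ∧ Flat hY.left ∧ Surjective hY.left ∧
      LocallyOfFinitePresentation hY.left ∧ Etale X.hom ∧ X.hom p = s ∧
      ∀ y : Y.left, ∃ (W : Over S) (e : W ⟶ Y), Etale e.left ∧ (∃ w, e.left w = y) ∧
        R.arrows (Over.homMk W.hom (Category.comp_id _) : W ⟶ Over.mk (𝟙 S)) := by
  have hR' : Sieve.overEquiv (Over.mk (𝟙 S)) R ∈ Scheme.grothendieckTopology (@Flat ⊓ @LocallyOfFinitePresentation) S := hR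
  haveI : (@Flat ⊓ @LocallyOfFinitePresentation : MorphismProperty Scheme.{u}).IsMultiplicative :=
    { id_mem := fun X => ⟨inferInstanceAs (Flat (𝟙 X)), inferInstanceAs (LocallyOfFinitePresentation (𝟙 X))⟩
      comp_mem := fun a b ha hb => ⟨MorphismProperty.comp_mem _ a b ha.1 hb.1, MorphismProperty.comp_mem _ a b ha.2 hb.2⟩ }
  obtain ⟨𝒰, hle⟩ := Scheme.exists_cover_of_mem_grothendieckTopology hR'
  let g : ∐ 𝒰.X ⟶ S := Sigma.desc 𝒰.f
  haveI : Flat g := IsZariskiLocalAtSource.sigmaDesc (P := @Flat) (fun i => (𝒰.map_prop i).1)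
  haveI : LocallyOfFinitePresentation g :=
    IsZariskiLocalAtSource.sigmaDesc (P := @LocallyOfFinitePresentation) (fun i => (𝒰.map_prop i).2)
  haveI : Surjective g := ⟨fun z => by
    obtain ⟨w, hw⟩ := 𝒰.covers z
    refine ⟨Sigma.ι 𝒰.X (𝒰.idx z) w, ?_⟩
    rw [← Scheme.Hom.comp_apply, Sigma.ι_desc]
    exact hw⟩
  obtain ⟨S', V, e, π, he, ⟨p, hp⟩, hs, hf, hfl, hlfp, hloc⟩ := Groth.Agent.S1379.result g s
  refine ⟨Over.mk e, Over.mk (π ≫ e), Over.homMk π rfl, p, hf, hfl, hs, hlfp, he, hp, fun v => ?_⟩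
  obtain ⟨W, r, hv, hr⟩ := hloc v
  obtain ⟨i, z, hz⟩ := (sigmaOpenCover 𝒰.X).exists_eq (r ⟨v, hv⟩)
  let ci := (sigmaOpenCover 𝒰.X).f i
  let W' : (W : Scheme.{u}).Opens := r ⁻¹ᵁ ci.opensRange
  have hl : Set.range (W'.ι ≫ r) ⊆ Set.range ci := by
    rintro _ ⟨a, rfl⟩
    exact a.2
  let l : (W' : Scheme.{u}) ⟶ 𝒰.X i := IsOpenImmersion.lift ci (W'.ι ≫ r) hl
  let Ob : Over S := Over.mk ((W'.ι ≫ W.ι) ≫ π ≫ e)
  refine ⟨Ob, Over.homMk (U := Ob) (V := Over.mk (π ≫ e)) (W'.ι ≫ W.ι) rfl,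
    inferInstanceAs (Etale (W'.ι ≫ W.ι)), ⟨⟨⟨v, hv⟩, ⟨z, hz⟩⟩, rfl⟩, ?_⟩
  have hfac : l ≫ 𝒰.f i = Ob.hom := by
    rw [show 𝒰.f i = ci ≫ g from (Sigma.ι_desc 𝒰.f i).symm, ← Category.assoc, IsOpenImmersion.lift_fac,
      Category.assoc, hr]
    exact (Category.assoc _ _ _).symm
  have h1 := (Sieve.overEquiv_iff R _).1 (hle _ _ ⟨i⟩)
  let c : Ob ⟶ Over.mk (𝒰.f i ≫ (Over.mk (𝟙 S)).hom) := Over.homMk l (by
    show l ≫ 𝒰.f i ≫ 𝟙 S = _
    rw [Category.comp_id, hfac])
  have h2 := R.downward_closed h1 c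
  refine (congrArg (fun a => R.arrows a) ?_).mp h2
  exact Over.mkIdTerminal.hom_ext _ _

variable {S : Scheme.{u}}

theorem top_case {m : ℕ} (hV : Vanish.{u} m) (D : ResData S) (hD : D.ExactUpTo (m + 1))
    (c : (D.K (m + 1)).obj.obj (op (Over.mk (𝟙 S)))) (hc : appS (D.d (m + 1)) _ c = 0) :
    Presheaf.imageSieve (D.d m).hom (U := Over.mk (𝟙 S)) c ∈ Je S (Over.mk (𝟙 S)) := by
  refine etale_sieve_mem _ fun s => ?_
  obtain ⟨X, Y, hY, p, hf, hfl, hs, hlfp, he, hp, hloc⟩ := exists_finite_flat (hD m le_rfl _ c hc) s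
  let cY := (D.K (m + 1)).obj.map (Over.homMk Y.hom (Category.comp_id _) : Y ⟶ Over.mk (𝟙 S)).op c
  have hcY : Presheaf.imageSieve (D.d m).hom (U := Y) cY ∈ Je S Y := etale_sieve_mem _ fun y => by
    obtain ⟨W, e, he', hw, hW⟩ := hloc y
    refine ⟨W, e, he', hw, ?_⟩
    show (Presheaf.imageSieve (D.d m).hom (U := Y) cY).arrows e
    rw [map_mem_imageSieve]
    show (Presheaf.imageSieve (D.d m).hom (U := Over.mk (𝟙 S)) c).arrows (e ≫ _)
    rwa [show e ≫ (Over.homMk Y.hom (Category.comp_id _) : Y ⟶ Over.mk (𝟙 S)) =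
      Over.homMk W.hom (Category.comp_id _) from Over.mkIdTerminal.hom_ext _ _]
  obtain ⟨X₁, e₁, he₁, ⟨p₁, hp₁⟩, t, ht⟩ := exists_finite_refine (D.d m) hY cY hcY p
  let h₁ := (pbSnd hY e₁).left
  haveI : IsFinite h₁ := MorphismProperty.pullback_snd hY.left e₁.left hf
  haveI : Flat h₁ := MorphismProperty.pullback_snd hY.left e₁.left hfl
  haveI : Surjective h₁ := MorphismProperty.pullback_snd hY.left e₁.left hs
  haveI : LocallyOfFinitePresentation h₁ := MorphismProperty.pullback_snd hY.left e₁.left hlfp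
  let g := X₁.hom
  let m₀ : (Over.map g).obj (Over.mk (𝟙 X₁.left)) ⟶ Over.mk (𝟙 S) := Over.mkIdTerminal.from _
  let n₀ : (Over.map g).obj (Over.mk h₁) ⟶ pbObj hY e₁ :=
    Over.homMk (U := (Over.map g).obj (Over.mk h₁)) (V := pbObj hY e₁) (𝟙 _)
      ((Category.id_comp _).trans (Over.w (pbSnd hY e₁)).symm)
  let c₁ := (D.K (m + 1)).obj.map m₀.op c
  have hc₁ : appS (D.d (m + 1)) _ c₁ = 0 := by
    refine (imageSieve_naturality (D.d (m + 1)).hom m₀ c).trans ?_
    exact (congrArg _ hc).trans (map_zero _)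
  let b : (D.K m).obj.obj (op ((Over.map g).obj (Over.mk h₁))) := (D.K m).obj.map n₀.op t
  have hb : appS (D.d m) _ b = (D.K (m + 1)).obj.map
      ((Over.map g).map (Over.homMk h₁ (Category.comp_id h₁) : Over.mk h₁ ⟶ Over.mk (𝟙 X₁.left))).op c₁ := by
    refine (imageSieve_naturality (D.d m).hom n₀ t).trans ?_
    rw [ht, map_map_apply, map_map_apply, map_map_apply]
    exact congrArg (fun a => (D.K (m + 1)).obj.map (Quiver.Hom.op a) c) (Over.mkIdTerminal.hom_ext _ _)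
  have hk := killed h₁ (D.restrict g) hV (ResData.exactUpTo_restrict hD g) c₁ hc₁ b hb
  obtain ⟨W, eW, heW, ⟨w, hw⟩, hWR⟩ := exists_etale_of_mem hk p₁
  refine ⟨(Over.map g).obj W, (Over.map g).map eW ≫ m₀, ?_, ⟨w, ?_⟩, ?_⟩
  · haveI : Etale X.hom := he
    haveI : Etale g := by
      rw [show g = e₁.left ≫ X.hom from (Over.w e₁).symm]
      infer_instance
    show Etale (eW.left ≫ m₀.left)
    haveI : Etale m₀.left := by
      rw [show m₀.left = 𝟙 _ ≫ g from (Category.comp_id _).symm.trans (Over.w m₀), Category.id_comp]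
      infer_instance
    infer_instance
  · show (eW.left ≫ m₀.left) w = s
    rw [Scheme.Hom.comp_apply, hw, show m₀.left = 𝟙 _ ≫ g from (Category.comp_id _).symm.trans (Over.w m₀)]
    show g p₁ = s
    rw [show g = e₁.left ≫ X.hom from (Over.w e₁).symm, Scheme.Hom.comp_apply, hp₁, hp]
  · obtain ⟨u', hu'⟩ := hWR
    exact ⟨u', hu'.trans (map_map_apply (D.K (m + 1)).obj ((Over.map g).map eW) m₀ c)⟩

/-- Cocycles of resolutions of sheaves from the small etale site are etale locally coboundaries. -/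
theorem vanish : ∀ q : ℕ, Vanish.{u} q := by
  intro q
  induction q with
  | zero => exact fun S D _ m hm => absurd hm (Nat.not_succ_le_zero m)
  | succ q ih =>
    intro S D hD m hm U c hc
    rcases Nat.lt_or_ge m q with hlt | hge
    · exact ih S D (hD.mono (Nat.le_succ q)) m hlt U c hc
    obtain rfl : m = q := by omega
    let n₀ : (Over.map U.hom).obj (Over.mk (𝟙 U.left)) ⟶ U :=
      Over.homMk (U := (Over.map U.hom).obj (Over.mk (𝟙 U.left))) (V := U) (𝟙 U.left) rfl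
    let c₁ := (D.K (m + 1)).obj.map n₀.op c
    have hc₁ : appS (D.d (m + 1)) _ c₁ = 0 :=
      (imageSieve_naturality (D.d (m + 1)).hom n₀ c).trans ((congrArg _ hc).trans (map_zero _))
    have h1 := top_case ih (D.restrict U.hom) (ResData.exactUpTo_restrict hD U.hom) c₁ hc₁
    refine etale_sieve_mem _ fun x => ?_
    obtain ⟨W, e, he, ⟨w, hw⟩, u', hu'⟩ := exists_etale_of_mem h1 x
    refine ⟨(Over.map U.hom).obj W, (Over.map U.hom).map e ≫ n₀, ?_, ⟨w, ?_⟩, u', hu'.trans (map_map_apply (D.K (m + 1)).obj ((Over.map U.hom).map e) n₀ c)⟩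
    · show Etale (e.left ≫ 𝟙 U.left)
      exact MorphismProperty.comp_mem @Etale e.left (𝟙 U.left) he (MorphismProperty.id_mem @Etale U.left)
    · exact hw

end Groth.Agent.FppfCmp
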